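import Cfsg.Agent.Lib.Helper46.SL2Torus
import Cfsg.Agent.Lib.Helper46.SL2Q8
import Cfsg.Agent.Lib.Helper46.SL2Conj

/-! Ladder MCK, rung TOR, the `SL₂` core: outer elements of the normaliser invert the torus. -/

set_option autoImplicit false
set_option linter.unusedSectionVars false
set_option linter.unusedVariables false

namespace Cfsg.Agent.Lib.Helper89.MCK

open Matrix Cfsg.Agent.Lib.Helper46

variable {F : Type*} [Field F] [Fintype F]

theorem tor_two_ne_zero (hodd : Odd (Fintype.card F)) : (2 : F) ≠ 0 := by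
  rcases parity_cases (F := F) with ⟨h, -⟩ | ⟨-, h⟩
  · exact h
  · have := Nat.odd_iff.1 hodd
    omega

theorem tor_inv (hodd : Odd (Fintype.card F)) (ℓ : ℕ) [Fact ℓ.Prime] (hℓ : ℓ ≠ 2)
    (P : Sylow ℓ (SpecialLinearGroup (Fin 2) F)) (m : ℕ) (hℓm : ℓ ∣ m)
    (hC : Nat.card (Subgroup.centralizer ((P : Subgroup (SpecialLinearGroup (Fin 2) F)) : Set (SpecialLinearGroup (Fin 2) F))) = m)
    (hcyc : IsCyclic (Subgroup.centralizer ((P : Subgroup (SpecialLinearGroup (Fin 2) F)) : Set (SpecialLinearGroup (Fin 2) F))))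
    (hN : Nat.card (Subgroup.normalizer ((P : Subgroup (SpecialLinearGroup (Fin 2) F)) : Set (SpecialLinearGroup (Fin 2) F))) = 2 * m) :
    ∀ g ∈ Subgroup.normalizer ((P : Subgroup (SpecialLinearGroup (Fin 2) F)) : Set (SpecialLinearGroup (Fin 2) F)),
      g ∉ Subgroup.centralizer ((P : Subgroup (SpecialLinearGroup (Fin 2) F)) : Set (SpecialLinearGroup (Fin 2) F)) →
      ∀ t ∈ Subgroup.centralizer ((P : Subgroup (SpecialLinearGroup (Fin 2) F)) : Set (SpecialLinearGroup (Fin 2) F)),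
        g * t * g⁻¹ = t⁻¹ := by
  classical
  have hfin : Finite (SpecialLinearGroup (Fin 2) F) := finite_SL2
  have h2 : (2 : F) ≠ 0 := tor_two_ne_zero hodd
  obtain ⟨C, hCdef⟩ : ∃ C, C = Subgroup.centralizer ((P : Subgroup (SpecialLinearGroup (Fin 2) F)) : Set (SpecialLinearGroup (Fin 2) F)) := ⟨_, rfl⟩
  obtain ⟨N, hNdef⟩ : ∃ N, N = Subgroup.normalizer ((P : Subgroup (SpecialLinearGroup (Fin 2) F)) : Set (SpecialLinearGroup (Fin 2) F)) := ⟨_, rfl⟩
  rw [← hCdef] at hC hcyc ⊢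
  rw [← hNdef] at hN ⊢
  have hCN : C ≤ N := by rw [hCdef, hNdef]; exact Subgroup.centralizer_le_normalizer _
  have hmemC : ∀ t, t ∈ C ↔ ∀ p ∈ (P : Subgroup (SpecialLinearGroup (Fin 2) F)), p * t = t * p := by
    intro t; rw [hCdef, Subgroup.mem_centralizer_iff]; rfl
  have hmemN : ∀ g, g ∈ N ↔ ∀ p, p ∈ (P : Subgroup (SpecialLinearGroup (Fin 2) F)) ↔
      g * p * g⁻¹ ∈ (P : Subgroup (SpecialLinearGroup (Fin 2) F)) := by
    intro g; rw [hNdef]; exact Subgroup.mem_normalizer_iff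
  obtain ⟨⟨x₀, hx₀C⟩, hgen⟩ := hcyc.exists_generator
  have hpow : ∀ t ∈ C, ∃ k : ℤ, x₀ ^ k = t := by
    intro t ht
    obtain ⟨k, hk⟩ := Subgroup.mem_zpowers_iff.1 (hgen ⟨t, ht⟩)
    exact ⟨k, by simpa using congrArg Subtype.val hk⟩
  have hcomm : ∀ a ∈ C, ∀ b ∈ C, a * b = b * a := by
    intro a ha b hb
    obtain ⟨i, rfl⟩ := hpow a ha
    obtain ⟨j, rfl⟩ := hpow b hb
    rw [← _root_.zpow_add, ← _root_.zpow_add, add_comm]
  have hord : orderOf x₀ = m := by
    have h1 : orderOf (⟨x₀, hx₀C⟩ : C) = Nat.card C := orderOf_eq_card_of_forall_mem_zpowers hgen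
    rw [← hC, ← h1]
    exact (Subgroup.orderOf_mk x₀ hx₀C).symm
  have hidx : (C.subgroupOf N).index = 2 := by
    have h1 := (C.subgroupOf N).card_mul_index
    have h3 : Nat.card (C.subgroupOf N) = Nat.card C :=
      Nat.card_congr (Subgroup.subgroupOfEquivOfLe hCN).toEquiv
    rw [h3, hC, hN] at h1
    have hm : 0 < m := by rw [← hC]; exact Nat.card_pos
    have : m * (C.subgroupOf N).index = m * 2 := by rw [h1]; ring
    exact Nat.eq_of_mul_eq_mul_left hm this
  intro g hgN hgC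
  have hsq : g * g ∈ C := by
    have := Subgroup.mul_self_mem_of_index_two hidx ⟨g, hgN⟩
    simpa [Subgroup.mem_subgroupOf] using this
  have hconj : ∀ t ∈ C, g * t * g⁻¹ ∈ C := by
    intro t ht
    rw [hmemC] at ht ⊢
    intro p hp
    have h1 : g⁻¹ * p * g ∈ (P : Subgroup (SpecialLinearGroup (Fin 2) F)) := by
      rw [(hmemN g).1 hgN]
      simpa [mul_assoc] using hp
    have h3 := ht _ h1
    calc p * (g * t * g⁻¹) = g * ((g⁻¹ * p * g) * t) * g⁻¹ := by group
      _ = g * (t * (g⁻¹ * p * g)) * g⁻¹ := by rw [h3]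
      _ = g * t * g⁻¹ * p := by group
  -- fixed points of `g` in `C` are central
  have hfix : ∀ t ∈ C, g * t = t * g → t ∈ Subgroup.center (SpecialLinearGroup (Fin 2) F) := by
    intro t ht hgt
    by_contra hcen
    apply hgC
    rw [hmemC]
    intro p hp
    exact commute_trans t g p hcen hgt ((hmemC t).1 ht p hp)
  obtain ⟨y, hy⟩ : ∃ y, y = g * x₀ * g⁻¹ := ⟨_, rfl⟩
  have hyC : y ∈ C := hy ▸ hconj x₀ hx₀C
  have hyy : g * y * g⁻¹ = x₀ := by
    have h1 := hcomm (g * g) hsq x₀ hx₀C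
    calc g * y * g⁻¹ = (g * g * x₀) * g⁻¹ * g⁻¹ := by rw [hy]; group
      _ = (x₀ * (g * g)) * g⁻¹ * g⁻¹ := by rw [h1]
      _ = x₀ := by group
  have hu : x₀ * y ∈ Subgroup.center (SpecialLinearGroup (Fin 2) F) := by
    apply hfix _ (C.mul_mem hx₀C hyC)
    have h1 : g * (x₀ * y) * g⁻¹ = x₀ * y := by
      calc g * (x₀ * y) * g⁻¹ = (g * x₀ * g⁻¹) * (g * y * g⁻¹) := by group
        _ = y * x₀ := by rw [← hy, hyy]
        _ = x₀ * y := hcomm y hyC x₀ hx₀C
    exact mul_inv_eq_iff_eq_mul.1 h1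
  have hinv0 : y = x₀⁻¹ := by
    rcases eq_one_or_negOne_of_mem_center _ hu with h | h
    · exact eq_inv_of_mul_eq_one_right h
    · exfalso
      have h1 : y = negOne * x₀⁻¹ := by
        have h3 : y = x₀⁻¹ * negOne := by rw [← h]; group
        rw [h3]
        exact (Subgroup.mem_center_iff.1 negOne_mem_center x₀⁻¹)
      have h3 : tr y = tr x₀ := by rw [hy]; exact tr_conj g x₀
      rw [h1, tr_negOne_mul, tr_inv] at h3
      have h4 : tr x₀ = 0 := by
        have : 2 * tr x₀ = 0 := by linear_combination -h3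
        exact (mul_eq_zero.1 this).resolve_left h2
      have h5 := sq_of_tr_zero x₀ h4
      have h6 : x₀ ^ 4 = 1 := by
        calc x₀ ^ 4 = (x₀ * x₀) * (x₀ * x₀) := by simp only [pow_succ, pow_zero, one_mul, mul_assoc]
          _ = 1 := by rw [h5]; exact negOne_mul_self
      have h7 : m ∣ 4 := hord ▸ orderOf_dvd_of_pow_eq_one h6
      have h8 : ℓ ∣ 2 ^ 2 := by
        have := hℓm.trans h7
        simpa using this
      have h9 := (Fact.out : ℓ.Prime).dvd_of_dvd_pow h8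
      exact hℓ ((Nat.prime_dvd_prime_iff_eq Fact.out Nat.prime_two).1 h9)
  intro t ht
  obtain ⟨k, rfl⟩ := hpow t ht
  rw [← conj_zpow, ← hy, hinv0, _root_.inv_zpow]

end Cfsg.Agent.Lib.Helper89.MCK
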